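import Cfsg.Agent.H502.TO.Seven

/-!
# The prime 7, second part (helper502)

* `no_49` : 49 does not divide `|C(y)|` if `4 ∤ |N(⟨y⟩)|`, `y` of order `r`, `r²` not dividing the order.
-/

set_option autoImplicit false
set_option linter.unusedSectionVars false

namespace Cfsg.Agent.H502.TO

open Subgroup Cfsg
open Cfsg.Agent.H49.ThSeven

/-- the Sylow 7-subgroups: 48 divides the order of the normaliser -/
theorem dvd_normalizer {K : Type*} [Group K] [Finite K] {x a b c : K} (D : Dat x a b c) {P : Subgroup K}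
    (hP : Nat.card P = 49) : 48 ∣ Nat.card (normalizer (P : Set K)) := by
  have h7F : Fact (Nat.Prime 7) := ⟨by norm_num⟩
  have hP7 : IsPGroup 7 P := IsPGroup.of_card (n := 2) (by rw [hP]; norm_num)
  obtain ⟨S, hS⟩ := hP7.exists_le_sylow
  have hSP : (S : Subgroup K) = P := (Subgroup.eq_of_le_of_card_ge hS (by rw [hP]; exact D.le_of_seven S.isPGroup')).symm
  -- the good Sylow subgroup
  obtain ⟨Q, hQ, hxQ, hQc, hQe⟩ := D.exists_elem D.hx
  obtain ⟨T, hT⟩ := (IsPGroup.of_card (n := 2) (by rw [hQ]; norm_num) : IsPGroup 7 Q).exists_le_sylow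
  have hTQ : (T : Subgroup K) = Q := (Subgroup.eq_of_le_of_card_ge hT (by rw [hQ]; exact D.le_of_seven T.isPGroup')).symm
  obtain ⟨g, hg⟩ := MulAction.exists_smul_eq K T S
  have hgP : ∀ u ∈ P, ∃ v ∈ Q, g * v * g⁻¹ = u := by
    intro u hu
    rw [← hSP, ← hg] at hu
    obtain ⟨v, hv, rfl⟩ := hu
    rw [SetLike.mem_coe, hTQ] at hv
    exact ⟨v, hv, rfl⟩
  have hPc : ∀ u ∈ P, ∀ v ∈ P, u * v = v * u := by
    intro u hu v hv
    obtain ⟨u', hu', rfl⟩ := hgP u hu
    obtain ⟨v', hv', rfl⟩ := hgP v hv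
    calc g * u' * g⁻¹ * (g * v' * g⁻¹) = g * (u' * v') * g⁻¹ := by group
      _ = g * (v' * u') * g⁻¹ := by rw [hQc u' hu' v' hv']
      _ = _ := by group
  have hPe : ∀ u ∈ P, u ≠ 1 → orderOf u = 7 := by
    intro u hu hu1
    obtain ⟨u', hu', rfl⟩ := hgP u hu
    rw [orderOf_conj']
    refine orderOf_eq_prime (hQe u' hu') ?_
    rintro rfl
    apply hu1
    rw [mul_one, mul_inv_cancel]
  have hSc : IsMulCommutative (S : Subgroup K) := by
    refine ⟨⟨fun u v => Subtype.ext (hPc u ?_ v ?_)⟩⟩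
    · rw [← hSP]; exact u.2
    · rw [← hSP]; exact v.2
  obtain ⟨⟨z, hz⟩, hz7⟩ := exists_prime_orderOf_dvd_card' (G := P) 7 (by rw [hP]; norm_num)
  rw [Subgroup.orderOf_mk] at hz7
  have hz1 : z ≠ 1 := by
    rintro rfl
    rw [orderOf_one] at hz7
    norm_num at hz7
  set N := normalizer (P : Set K) with hN
  let act : MulAction N K := MulAction.compHom K (MulAut.conj.comp N.subtype)
  have h1 : MulAction.orbit N z = (P : Set K) \ {1} := by
    ext u
    constructor
    · rintro ⟨n, rfl⟩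
      refine ⟨(Subgroup.mem_normalizer_iff.1 n.2 z).1 hz, ?_⟩
      intro h2
      apply hz1
      have h3 : (n : K) * z * (n : K)⁻¹ = 1 := h2
      rwa [mul_inv_eq_one, mul_eq_left] at h3
    · rintro ⟨hu, hu1⟩
      have hu7 := hPe u hu hu1
      obtain ⟨k, hk⟩ := D.one z hz7
      obtain ⟨l, hl⟩ := D.one u hu7
      have h3 : (k⁻¹ * l)⁻¹ * z * (k⁻¹ * l) = u := by
        calc (k⁻¹ * l)⁻¹ * z * (k⁻¹ * l) = l⁻¹ * (k * z * k⁻¹) * l := by group
          _ = l⁻¹ * (l * u * l⁻¹) * l := by rw [hk, hl]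
          _ = u := by group
      obtain ⟨n, hn, hnu⟩ := S.conj_eq_normalizer_conj_of_mem z (k⁻¹ * l) (by
        show z ∈ (S : Subgroup K)
        rw [hSP]; exact hz) (by
        rw [h3]
        show u ∈ (S : Subgroup K)
        rw [hSP]; exact hu)
      have hn' : n ∈ N := by
        rw [hN, ← hSP]
        exact hn
      refine ⟨⟨n⁻¹, N.inv_mem hn'⟩, ?_⟩
      show n⁻¹ * z * n⁻¹⁻¹ = u
      rw [inv_inv, ← hnu, h3]
  have h2 : Nat.card (MulAction.orbit N z) = 48 := by
    rw [h1]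
    have h3 := Set.ncard_diff_singleton_of_mem (s := (P : Set K)) (one_mem P)
    have h4 : (P : Set K).ncard = 49 := hP
    rw [h4] at h3
    exact h3
  rw [← h2]
  have h3 := Nat.card_congr (MulAction.orbitProdStabilizerEquivGroup N z)
  rw [Nat.card_prod] at h3
  exact ⟨_, h3.symm⟩

/-- the centralisers of elements of order `r` are not divisible by 49 -/
theorem no_49 {K : Type*} [Group K] [Finite K] {x a b c : K} (D : Dat x a b c) {r : ℕ} (hr : r.Prime)
    (hrr : ¬ r ^ 2 ∣ Nat.card K) {y : K} (hy : orderOf y = r)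
    (hN4 : ¬ 4 ∣ Nat.card (normalizer ((zpowers y : Subgroup K) : Set K))) :
    ¬ 49 ∣ Nat.card (centralizer ({y} : Set K)) := by
  have h7F : Fact (Nat.Prime 7) := ⟨by norm_num⟩
  have hrF : Fact r.Prime := ⟨hr⟩
  intro h49
  obtain ⟨P', hP'⟩ := Sylow.exists_subgroup_card_pow_prime (G := centralizer ({y} : Set K)) 7 (n := 2)
    (by norm_num; exact h49)
  set P : Subgroup K := P'.map (centralizer ({y} : Set K)).subtype with hPd
  have hP : Nat.card P = 49 := by
    rw [hPd, card_map_of_injective (subtype_injective _), hP']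
    norm_num
  have hPy : P ≤ centralizer ({y} : Set K) := map_subtype_le _
  have h48 := dvd_normalizer D hP
  set N := normalizer (P : Set K) with hN
  set C := centralizer (P : Set K) with hC
  have hyC : y ∈ C := by
    rw [hC, mem_centralizer_iff]
    intro u hu
    exact mem_centralizer_singleton_iff.1 (hPy hu)
  set M : Subgroup K := N ⊓ normalizer ((zpowers y : Subgroup K) : Set K) with hM
  have hCN : C ≤ N := centralizer_le_normalizer _
  have hNC : ∀ n ∈ N, ∀ u ∈ C, n * u * n⁻¹ ∈ C := by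
    intro n hn u hu
    rw [hC, mem_centralizer_iff] at hu ⊢
    intro v hv
    have h1 : n⁻¹ * v * n ∈ P := by
      have h2 := (Subgroup.mem_normalizer_iff.1 (N.inv_mem hn) v).1 hv
      rwa [inv_inv] at h2
    have h2 := hu _ h1
    calc v * (n * u * n⁻¹) = n * ((n⁻¹ * v * n) * u) * n⁻¹ := by group
      _ = n * (u * (n⁻¹ * v * n)) * n⁻¹ := by rw [h2]
      _ = _ := by group
  have hMC : M ≤ normalizer (C : Set K) := by
    intro m hm
    rw [Subgroup.mem_normalizer_iff]
    intro u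
    constructor
    · exact hNC m hm.1 u
    · intro hu
      have h1 := hNC m⁻¹ (N.inv_mem hm.1) _ hu
      rwa [show m⁻¹ * (m * u * m⁻¹) * m⁻¹⁻¹ = u by group] at h1
  have hNM : N ≤ M ⊔ C := by
    intro n hn
    have h1 : n * y * n⁻¹ ∈ C := hNC n hn y hyC
    obtain ⟨d, hd⟩ := CpAutON.Gen.conj_into (G := C) (p := r)
      (fun h => hrr (h.trans (Subgroup.card_subgroup_dvd_card _)))
      (x := ⟨n * y * n⁻¹, h1⟩) (y := ⟨y, hyC⟩) (by rw [Subgroup.orderOf_mk, orderOf_conj', hy])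
      (by rw [Subgroup.orderOf_mk, hy])
    obtain ⟨i, hi⟩ := mem_zpowers_iff.1 hd
    have h2 : y ^ i = (d : K) * (n * y * n⁻¹) * (d : K)⁻¹ := congrArg Subtype.val hi
    have h3 : ((d : K) * n) * y * ((d : K) * n)⁻¹ ∈ zpowers y := by
      refine mem_zpowers_iff.2 ⟨i, ?_⟩
      rw [h2]
      group
    obtain ⟨k, hk⟩ := (Submonoid.mem_powers_iff _ _).1 ((mem_powers_iff_mem_zpowers).2 h3)
    have h4 : (d : K) * n ∈ M := ⟨N.mul_mem (hCN d.2) hn, H843.Cyc.mem_normalizer hk.symm⟩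
    have h5 : n = (d : K)⁻¹ * (d * n) := by group
    rw [h5]
    exact Subgroup.mul_mem _ (mem_sup_right (C.inv_mem d.2)) (mem_sup_left h4)
  have h1 := GH.C2GrowG.card_sup hMC
  have h2 : 16 ∣ Nat.card M * Nat.card C := by
    rw [← h1]
    exact ((Dvd.dvd.trans (by norm_num) h48).trans (card_dvd_of_le hNM)).mul_right _
  have h3 : ¬ 2 ∣ Nat.card C := by
    intro h2
    have h2F : Fact (Nat.Prime 2) := ⟨Nat.prime_two⟩
    obtain ⟨⟨s, hs⟩, hs2⟩ := exists_prime_orderOf_dvd_card' (G := C) 2 h2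
    rw [Subgroup.orderOf_mk] at hs2
    refine D.no_cent hs2 hP ?_
    intro u hu
    exact ((mem_centralizer_iff.1 hs) u hu).symm
  have h4 : Nat.Coprime 16 (Nat.card C) := by
    have := Nat.Coprime.pow_left 4 ((Nat.Prime.coprime_iff_not_dvd Nat.prime_two).2 h3)
    exact this
  have h5 := h4.dvd_of_dvd_mul_right h2
  exact hN4 (((Dvd.dvd.trans (by norm_num) h5)).trans (card_dvd_of_le inf_le_right))

end Cfsg.Agent.H502.TO
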