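import Cfsg.Agent.H502.TO.StarB
import Cfsg.Agent.H502.TO.Seven2

/-!
# Elements of the Thompson group with a centraliser of odd order (helper502)

* `nineteen` : the centraliser of an element of order 19;
* `main` : a centraliser `C(x)` of odd order not divisible by 7, `x ≠ 1`, has order less than `2 ^ 15`.
-/

set_option autoImplicit false
set_option maxRecDepth 100000

namespace Cfsg.Agent.H502.TO

open Subgroup Cfsg

/-! ### Arithmetic -/

/-- remove a prime -/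
theorem dvd_of_not {c m q : ℕ} (hq : q.Prime) {k : ℕ} (h : c ∣ m * q ^ k) (hc : ¬ q ∣ c) : c ∣ m :=
  Nat.Coprime.dvd_of_dvd_mul_right (Nat.Coprime.pow_right k ((Nat.Prime.coprime_iff_not_dvd hq).2 hc).symm) h

/-- lower the exponent of a prime -/
theorem dvd_of_not_pow {c m q : ℕ} (hq : q.Prime) {k j : ℕ} (h : c ∣ m * q ^ k) (hc : ¬ q ^ (j + 1) ∣ c) :
    c ∣ m * q ^ j := by
  obtain ⟨a, b, ha, hb, rfl⟩ := exists_dvd_and_dvd_of_dvd_mul h
  obtain ⟨i, hi, rfl⟩ := (Nat.dvd_prime_pow hq).1 hb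
  refine mul_dvd_mul ha (pow_dvd_pow q ?_)
  by_contra h2
  exact hc ((pow_dvd_pow q (by omega : j + 1 ≤ i)).trans (dvd_mul_left _ _))

theorem exists_exp {c : ℕ} {a1 a2 a3 a4 : ℕ} (h : c ∣ 3 ^ a1 * 7 ^ a2 * 13 ^ a3 * 19 ^ a4) :
    ∃ i1 ≤ a1, ∃ i2 ≤ a2, ∃ i3 ≤ a3, ∃ i4 ≤ a4, c = 3 ^ i1 * 7 ^ i2 * 13 ^ i3 * 19 ^ i4 := by
  obtain ⟨c1, d1, h1, h2, rfl⟩ := exists_dvd_and_dvd_of_dvd_mul h
  obtain ⟨c2, d2, h3, h4, rfl⟩ := exists_dvd_and_dvd_of_dvd_mul h1
  obtain ⟨c3, d3, h5, h6, rfl⟩ := exists_dvd_and_dvd_of_dvd_mul h3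
  obtain ⟨i4, hi4, rfl⟩ := (Nat.dvd_prime_pow (by norm_num)).1 h2
  obtain ⟨i3, hi3, rfl⟩ := (Nat.dvd_prime_pow (by norm_num)).1 h4
  obtain ⟨i2, hi2, rfl⟩ := (Nat.dvd_prime_pow (by norm_num)).1 h6
  obtain ⟨i1, hi1, rfl⟩ := (Nat.dvd_prime_pow (by norm_num)).1 h5
  exact ⟨i1, hi1, i2, hi2, i3, hi3, i4, hi4, rfl⟩

set_option synthInstance.maxHeartbeats 400000 in
set_option synthInstance.maxSize 2000 in
/-- the centraliser of an element of order 19 -/
theorem arith19 : ∀ i1 ≤ 10, ∀ i2 ≤ 1, ∀ i3 ≤ 1, ∀ i4 ≤ 1,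
    (3 ^ i1 * 7 ^ i2 * 13 ^ i3 * 19 ^ i4 * 18) ∣ 90745943887872000 →
    (90745943887872000 / (3 ^ i1 * 7 ^ i2 * 13 ^ i3 * 19 ^ i4 * 18)) % 19 = 1 →
      19 ∣ 3 ^ i1 * 7 ^ i2 * 13 ^ i3 * 19 ^ i4 → 3 ^ i1 * 7 ^ i2 * 13 ^ i3 * 19 ^ i4 ∣ 741 := by
  decide +kernel

/-- the number of Sylow 31-subgroups -/
theorem arith31 : ∀ i1 ≤ 7, ∀ i2 ≤ 0, ∀ i3 ≤ 1, ∀ i4 ≤ 1,
    (3 ^ i1 * 7 ^ i2 * 13 ^ i3 * 19 ^ i4) % 31 = 1 → 3 ^ i1 * 7 ^ i2 * 13 ^ i3 * 19 ^ i4 = 1 := by
  decide +kernel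

set_option synthInstance.maxHeartbeats 400000 in
set_option synthInstance.maxSize 2000 in
/-- the number of Sylow 19-subgroups -/
theorem arith19' : ∀ i1 ≤ 7, ∀ i2 ≤ 0, ∀ i3 ≤ 1, ∀ i4 ≤ 0,
    (3 ^ i1 * 7 ^ i2 * 13 ^ i3 * 19 ^ i4) % 19 = 1 →
      3 ^ i1 * 7 ^ i2 * 13 ^ i3 * 19 ^ i4 = 1 ∨ 3 ^ i1 * 7 ^ i2 * 13 ^ i3 * 19 ^ i4 = 39 := by
  decide +kernel

/-! ### The centraliser of an element of order 19 -/

theorem nineteen {y : Spor.Th} (hy : orderOf y = 19) : Nat.card (centralizer ({y} : Set Spor.Th)) ∣ 741 := by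
  have := fin_th
  have hcard := card_th
  obtain ⟨y', g, hy', hg⟩ := exists_nineteen
  have hrr : ¬ 19 ^ 2 ∣ Nat.card Spor.Th := by rw [hcard]; norm_num
  rw [card_cent_eq (by norm_num) hrr hy' hy]
  obtain ⟨hN, n, hn, hG⟩ := sylow_eq (r := 19) (by norm_num) hrr hy' hg ord13
  set c := Nat.card (centralizer ({y'} : Set Spor.Th)) with hc
  have h2 : ¬ 2 ∣ c := odd_cent (by norm_num) (by norm_num) hy'
  have h5 : ¬ 5 ∣ c := not_dvd_five (by norm_num) (by norm_num) hy'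
  have h31 : ¬ 31 ∣ c := by
    intro h
    obtain ⟨z, hz, hd⟩ := dvd_symm (by norm_num) h
    rw [hy'] at hd
    exact (thirtyone hz).2.1 hd
  have h49 : ¬ 49 ∣ c := by
    refine no_49 H49.ThSeven.dat (r := 19) (by norm_num) hrr hy' ?_
    rw [hN]
    intro h4
    apply h2
    have h6 : 4 ∣ c * 18 := h4
    omega
  have hcG : c ∣ 90745943887872000 := by rw [← hcard]; exact Subgroup.card_subgroup_dvd_card _
  have k1 : c ∣ (3 ^ 10 * 7 ^ 2 * 13 * 19 * 31 * 5 ^ 3) * 2 ^ 15 := hcG.trans (by norm_num)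
  have k2 : c ∣ (3 ^ 10 * 7 ^ 2 * 13 * 19 * 31) * 5 ^ 3 := dvd_of_not Nat.prime_two k1 h2
  have k3 : c ∣ (3 ^ 10 * 7 ^ 2 * 13 * 19) * 31 ^ 1 := (dvd_of_not (by norm_num) k2 h5).trans (by norm_num)
  have k4 : c ∣ (3 ^ 10 * 13 * 19) * 7 ^ 2 := (dvd_of_not (by norm_num) k3 h31).trans (by norm_num)
  have k5 : c ∣ (3 ^ 10 * 13 * 19) * 7 ^ 1 := dvd_of_not_pow (by norm_num) k4 (j := 1) h49
  have k6 : c ∣ 3 ^ 10 * 7 ^ 1 * 13 ^ 1 * 19 ^ 1 := k5.trans (by norm_num)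
  obtain ⟨i1, hi1, i2, hi2, i3, hi3, i4, hi4, he⟩ := exists_exp k6
  have h19 : 19 ∣ c := by
    rw [← hy']
    exact dvd_of_comm rfl
  rw [hcard] at hG
  have hn' : (90745943887872000 / (c * 18)) % 19 = 1 := by
    rw [hG, Nat.mul_div_cancel n (Nat.mul_pos Nat.card_pos (by norm_num))]
    exact hn
  have hd : (c * 18) ∣ 90745943887872000 := ⟨n, by rw [hG, mul_comm]⟩
  rw [he] at hn' h19 hd ⊢
  exact arith19 i1 hi1 i2 hi2 i3 hi3 i4 hi4 hd hn' h19

/-! ### The bound -/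

/-- centralisers in a subgroup -/
theorem card_cent_sub {K : Type*} [Group K] [Finite K] {F : Subgroup K} {y : K} (hy : y ∈ F) :
    Nat.card (centralizer ({(⟨y, hy⟩ : F)} : Set F)) ∣ Nat.card (centralizer ({y} : Set K)) := by
  rw [← card_map_of_injective F.subtype_injective]
  apply card_dvd_of_le
  rintro _ ⟨u, hu, rfl⟩
  have h1 := mem_centralizer_singleton_iff.1 hu
  exact mem_centralizer_singleton_iff.2 (congrArg Subtype.val h1)

theorem odd_dvd {e f m : ℕ} (he : e ∣ f) (hf : Odd f) (hm : e ∣ 2 * m) : e ∣ m :=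
  (Nat.coprime_two_right.2 (Odd.of_dvd_nat hf he)).dvd_of_dvd_mul_left hm

/-- **The bound** -/
theorem main {x : Spor.Th} (hx : x ≠ 1) (hodd : Odd (Nat.card (centralizer ({x} : Set Spor.Th))))
    (h7 : ¬ 7 ∣ Nat.card (centralizer ({x} : Set Spor.Th))) : Nat.card (centralizer ({x} : Set Spor.Th)) < 2 ^ 15 := by
  have := fin_th
  have hcard := card_th
  set F := centralizer ({x} : Set Spor.Th) with hF
  by_contra hge
  push Not at hge
  have h3F : Fact (Nat.Prime 3) := ⟨Nat.prime_three⟩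
  have h2 : ¬ 2 ∣ Nat.card F := fun h => (Nat.not_even_iff_odd.2 hodd) (even_iff_two_dvd.2 h)
  have memF : ∀ {u : Spor.Th}, u ∈ F ↔ u * x = x * u := fun {u} => mem_centralizer_singleton_iff
  have hxF : x ∈ F := memF.2 rfl
  have hno : ∀ s : Spor.Th, orderOf s = 2 → s * x ≠ x * s := by
    intro s hs hsx
    apply h2
    rw [← hs]
    exact dvd_of_comm hsx
  have hoF : orderOf x ∣ Nat.card F := dvd_of_comm rfl
  -- elements of prime order which are powers of `x`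
  have hpow : ∀ {r : ℕ}, r.Prime → r ∣ orderOf x → ∃ z : Spor.Th, orderOf z = r ∧ F ≤ centralizer ({z} : Set Spor.Th) := by
    intro r hr hd
    refine ⟨x ^ (orderOf x / r), orderOf_pow_orderOf_div (orderOf_pos x).ne' hd, ?_⟩
    intro u hu
    rw [mem_centralizer_singleton_iff]
    exact ((show Commute u x from memF.1 hu).pow_right _).eq
  -- the prime 5
  have h5 : ¬ 5 ∣ Nat.card F := by
    intro h5
    obtain ⟨y, hyF, hy⟩ := exists_of_dvd (by norm_num) h5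
    have hxy : x ∈ centralizer ({y} : Set Spor.Th) := mem_centralizer_singleton_iff.2 (memF.1 hyF).symm
    have ho : orderOf x ∣ 3000 := by
      rw [← card_five hy]
      exact dvd_of_comm (mem_centralizer_singleton_iff.1 hxy)
    by_cases h5x : 5 ∣ orderOf x
    · obtain ⟨z, hz, hFz⟩ := hpow (by norm_num) h5x
      have h1 := Subgroup.card_le_of_le hFz
      rw [card_five hz] at h1
      have := hge.trans h1
      norm_num at this
    · have h3 : orderOf x ∣ 3 := by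
        have k1 : orderOf x ∣ (3 * 5 ^ 3) * 2 ^ 3 := ho.trans (by norm_num)
        have k2 := dvd_of_not Nat.prime_two k1 (fun h => h2 (h.trans hoF))
        exact dvd_of_not (by norm_num) k2 h5x
      rcases (Nat.dvd_prime Nat.prime_three).1 h3 with h4 | h4
      · exact hx (orderOf_eq_one_iff.1 h4)
      · obtain ⟨s, hs, hsx⟩ := three_five h4 hy (mem_centralizer_singleton_iff.1 hxy)
        exact hno s hs hsx
  have hFG : Nat.card F ∣ 90745943887872000 := by rw [← hcard]; exact Subgroup.card_subgroup_dvd_card _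
  have k1 : Nat.card F ∣ (3 ^ 10 * 7 ^ 2 * 13 * 19 * 31 * 5 ^ 3) * 2 ^ 15 := hFG.trans (by norm_num)
  have k2 : Nat.card F ∣ (3 ^ 10 * 7 ^ 2 * 13 * 19 * 31) * 5 ^ 3 := dvd_of_not Nat.prime_two k1 h2
  have k3 : Nat.card F ∣ (3 ^ 10 * 13 * 19 * 31) * 7 ^ 2 := (dvd_of_not (by norm_num) k2 h5).trans (by norm_num)
  have k4 : Nat.card F ∣ (13 * 19 * 31) * 3 ^ 10 := (dvd_of_not (by norm_num) k3 h7).trans (by norm_num)
  -- the 3-part
  have h38 : ¬ 3 ^ 8 ∣ Nat.card F := by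
    intro h
    have hr : ∀ {r : ℕ}, r = 13 ∨ r = 19 ∨ r = 31 → ¬ r ∣ orderOf x := by
      intro r hr hd
      obtain ⟨z, hz, hFz⟩ := hpow (by rcases hr with rfl | rfl | rfl <;> norm_num) hd
      exact no_38 hr hz (h.trans (card_dvd_of_le hFz))
    have h1 : orderOf x ∣ (3 ^ 10 * 19 * 31) * 13 ^ 1 := (hoF.trans k4).trans (by norm_num)
    have h3 : orderOf x ∣ (3 ^ 10 * 31) * 19 ^ 1 := (dvd_of_not (by norm_num) h1 (hr (Or.inl rfl))).trans (by norm_num)
    have h4 : orderOf x ∣ (3 ^ 10) * 31 ^ 1 :=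
      (dvd_of_not (by norm_num) h3 (hr (Or.inr (Or.inl rfl)))).trans (by norm_num)
    have h5 : orderOf x ∣ 3 ^ 10 := dvd_of_not (by norm_num) h4 (hr (Or.inr (Or.inr rfl)))
    obtain ⟨R', hR'⟩ := Sylow.exists_subgroup_card_pow_prime (G := F) 3 h
    have hR : Nat.card (R'.map F.subtype) = 3 ^ 8 := by rw [card_map_of_injective (subtype_injective _), hR']
    obtain ⟨s, hs, hsx⟩ := star hx (orderOf_dvd_iff_pow_eq_one.1 h5) (IsPGroup.of_card hR) (by
      rintro _ ⟨r, hr, rfl⟩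
      exact (memF.1 r.2).symm) (by rw [hR])
    exact hno s hs hsx
  have k5 : Nat.card F ∣ (13 * 19 * 31) * 3 ^ 7 := dvd_of_not_pow Nat.prime_three k4 h38
  by_cases h31 : 31 ∣ Nat.card F
  · obtain ⟨y, hyF, hy⟩ := exists_of_dvd (by norm_num) h31
    obtain ⟨e, n, he, hN, hn, hG⟩ := sylow_gen (G := F) (r := 31) (by norm_num)
      (fun h => absurd (h.trans k5) (by norm_num)) (y := ⟨y, hyF⟩) (by rw [Subgroup.orderOf_mk, hy])
    set c := Nat.card (centralizer ({(⟨y, hyF⟩ : F)} : Set F)) with hc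
    have hcC : c ∣ Nat.card (centralizer ({y} : Set Spor.Th)) := card_cent_sub hyF
    have hcF : c ∣ Nat.card F := Subgroup.card_subgroup_dvd_card _
    obtain ⟨h13, h19, h36⟩ := thirtyone hy
    have h31c : 31 ∣ c := by
      have h1 := dvd_of_comm (K := F) (y := ⟨y, hyF⟩) (z := ⟨y, hyF⟩) rfl
      rwa [Subgroup.orderOf_mk, hy] at h1
    have j1 : c ∣ (19 * 31 * 3 ^ 7) * 13 ^ 1 := (hcF.trans k5).trans (by norm_num)
    have j2 : c ∣ (31 * 3 ^ 7) * 19 ^ 1 := (dvd_of_not (by norm_num) j1 (fun h => h13 (h.trans hcC))).trans (by norm_num)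
    have j3 : c ∣ 31 * 3 ^ 7 := dvd_of_not (by norm_num) j2 (fun h => h19 (h.trans hcC))
    have j4 : c ∣ 31 * 3 ^ 5 := dvd_of_not_pow Nat.prime_three j3 (fun h => no_38 (Or.inr (Or.inr rfl)) hy (h36 (h.trans hcC)))
    have heF : e ∣ Nat.card F := by rw [hG]; exact ⟨n * c, by ring⟩
    have he3 : e ∣ 3 := by
      have j5 : e ∣ (3 * 5) := odd_dvd heF hodd (he.trans (by norm_num))
      exact dvd_of_not (q := 5) (k := 1) (by norm_num) (j5.trans (by norm_num)) (fun h => h5 (h.trans heF))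
    obtain ⟨c', hc'⟩ := h31c
    have hnd : n ∣ (13 * 19) * 3 ^ 7 := by
      have j6 : n * 31 ∣ (13 * 19 * 3 ^ 7) * 31 := by
        refine Dvd.dvd.trans ?_ (k5.trans (by norm_num))
        rw [hG, hc']
        exact ⟨c' * e, by ring⟩
      exact (Nat.dvd_of_mul_dvd_mul_right (by norm_num) j6)
    obtain ⟨i1, hi1, i2, hi2, i3, hi3, i4, hi4, hen⟩ := exists_exp (a1 := 7) (a2 := 0) (a3 := 1) (a4 := 1)
      (hnd.trans (by norm_num))
    have hn1 : n = 1 := by
      rw [hen] at hn ⊢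
      exact arith31 i1 hi1 i2 hi2 i3 hi3 i4 hi4 hn
    rw [hn1, one_mul] at hG
    have h1 := Nat.mul_le_mul (Nat.le_of_dvd (by norm_num) j4) (Nat.le_of_dvd (by norm_num) he3)
    rw [← hG] at h1
    have := hge.trans h1
    norm_num at this
  · have k6 : Nat.card F ∣ 13 * 19 * 3 ^ 7 := by
      have : Nat.card F ∣ (13 * 19 * 3 ^ 7) * 31 ^ 1 := k5.trans (by norm_num)
      exact dvd_of_not (by norm_num) this h31
    by_cases h19 : 19 ∣ Nat.card F
    · obtain ⟨y, hyF, hy⟩ := exists_of_dvd (by norm_num) h19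
      obtain ⟨e, n, he, hN, hn, hG⟩ := sylow_gen (G := F) (r := 19) (by norm_num)
        (fun h => absurd (h.trans k6) (by norm_num)) (y := ⟨y, hyF⟩) (by rw [Subgroup.orderOf_mk, hy])
      set c := Nat.card (centralizer ({(⟨y, hyF⟩ : F)} : Set F)) with hc
      have hcC : c ∣ 741 := (card_cent_sub hyF).trans (nineteen hy)
      have hcF : c ∣ Nat.card F := Subgroup.card_subgroup_dvd_card _
      have h19c : 19 ∣ c := by
        have h1 := dvd_of_comm (K := F) (y := ⟨y, hyF⟩) (z := ⟨y, hyF⟩) rfl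
        rwa [Subgroup.orderOf_mk, hy] at h1
      have heF : e ∣ Nat.card F := by rw [hG]; exact ⟨n * c, by ring⟩
      have he3 : e ∣ 9 := odd_dvd heF hodd (he.trans (by norm_num))
      obtain ⟨c', hc'⟩ := h19c
      have hnd : n ∣ 13 * 3 ^ 7 := by
        have j6 : n * 19 ∣ (13 * 3 ^ 7) * 19 := by
          refine Dvd.dvd.trans ?_ (k6.trans (by norm_num))
          rw [hG, hc']
          exact ⟨c' * e, by ring⟩
        exact (Nat.dvd_of_mul_dvd_mul_right (by norm_num) j6)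
      obtain ⟨i1, hi1, i2, hi2, i3, hi3, i4, hi4, hen⟩ := exists_exp (a1 := 7) (a2 := 0) (a3 := 1) (a4 := 0)
        (hnd.trans (by norm_num))
      have hn1 : n = 1 ∨ n = 39 := by
        rw [hen] at hn ⊢
        exact arith19' i1 hi1 i2 hi2 i3 hi3 i4 hi4 hn
      rcases hn1 with hn1 | hn1
      · rw [hn1, one_mul] at hG
        have h1 := Nat.mul_le_mul (Nat.le_of_dvd (by norm_num) hcC) (Nat.le_of_dvd (by norm_num) he3)
        rw [← hG] at h1
        have := hge.trans h1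
        norm_num at this
      · have h13c : ¬ 13 ∣ c := by
          intro h
          have h1 : 13 ^ 2 ∣ 13 * 19 * 3 ^ 7 := by
            refine Dvd.dvd.trans ?_ k6
            rw [hG, hn1]
            obtain ⟨c'', hc''⟩ := h
            rw [hc'']
            exact ⟨3 * c'' * e, by ring⟩
          revert h1
          norm_num
        have hc57 : c ∣ 57 := dvd_of_not (q := 13) (k := 1) (by norm_num) (hcC.trans (by norm_num)) h13c
        have h1 := Nat.mul_le_mul_left 39 (Nat.mul_le_mul (Nat.le_of_dvd (by norm_num) hc57) (Nat.le_of_dvd (by norm_num) he3))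
        rw [hn1] at hG
        rw [← hG] at h1
        have := hge.trans h1
        norm_num at this
    · have k7 : Nat.card F ∣ 13 * 3 ^ 7 := by
        have : Nat.card F ∣ (13 * 3 ^ 7) * 19 ^ 1 := k6.trans (by norm_num)
        exact dvd_of_not (by norm_num) this h19
      have := hge.trans (Nat.le_of_dvd (by norm_num) k7)
      norm_num at this

end Cfsg.Agent.H502.TO
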