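import Cfsg.Agent.H502.TO.Cent

/-!
# Elements of order 5 and 31 of the Thompson group (helper502)

* `card_five` : `|C(y)| = 3000` for all elements `y` of order 5;
* `three_five` : an element of order 3 commuting with an element of order 5 commutes with an involution;
* `thirtyone` : `|C(y)|` for an element `y` of order 31.
-/

set_option autoImplicit false
set_option maxRecDepth 100000

namespace Cfsg.Agent.H502.TO

open Subgroup Cfsg
open Cfsg.Agent.Th.Base Cfsg.Agent.Th.Word Cfsg.Agent.Th.RelWords Cfsg.Agent.Th.PermTab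
  Cfsg.Agent.Th.KOracle Cfsg.Agent.Th.KPerm Cfsg.Agent.Th.NineAct Cfsg.Agent.Th.CStruct
  Cfsg.Agent.Th.COracleDef Cfsg.Agent.Th.COracleSound
open Cfsg.Agent.KFacts.Th.Mask Cfsg.Agent.KFacts.Th.Struct
open Cfsg.Agent.Th.IndexUpper (gTh)
open Cfsg.Agent.CpAutTh.Data Cfsg.Agent.CpAutTh.Alt Cfsg.Agent.CpAutTh.RankOne Cfsg.Agent.CpAutTh.Local

/-- a prime dividing `|C(y)|`: an element of that order commuting with `y` -/
theorem exists_of_dvd {K : Type*} [Group K] [Finite K] {q : ℕ} (hq : q.Prime) {H : Subgroup K} (h : q ∣ Nat.card H) :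
    ∃ z ∈ H, orderOf z = q := by
  have : Fact q.Prime := ⟨hq⟩
  obtain ⟨⟨z, hz⟩, ho⟩ := exists_prime_orderOf_dvd_card' q h
  rw [Subgroup.orderOf_mk] at ho
  exact ⟨z, hz, ho⟩

theorem dvd_of_comm {K : Type*} [Group K] [Finite K] {y z : K} (h : z * y = y * z) :
    orderOf z ∣ Nat.card (centralizer ({y} : Set K)) := by
  rw [← Nat.card_zpowers]
  apply card_dvd_of_le
  rw [zpowers_le, mem_centralizer_singleton_iff]
  exact h

/-- symmetric form -/
theorem dvd_symm {K : Type*} [Group K] [Finite K] {q : ℕ} (hq : q.Prime) {y : K}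
    (h : q ∣ Nat.card (centralizer ({y} : Set K))) :
    ∃ z : K, orderOf z = q ∧ orderOf y ∣ Nat.card (centralizer ({z} : Set K)) := by
  obtain ⟨z, hz, ho⟩ := exists_of_dvd hq h
  exact ⟨z, ho, dvd_of_comm (mem_centralizer_singleton_iff.1 hz).symm⟩

/-- **`|C(y)| = 3000` for all elements of order 5** -/
theorem card_five {y : Spor.Th} (hy : orderOf y = 5) : Nat.card (centralizer ({y} : Set Spor.Th)) = 3000 := by
  obtain ⟨_, x', y', z, a, D⟩ := H49.ThFive.exists_dat
  obtain ⟨g, hg⟩ := D.all hy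
  have := fin_th
  rw [← card_cent_conj g y, hg]
  exact D.card_C

theorem not_dvd_five {q : ℕ} (hq : q.Prime) (h : ¬ q ∣ 3000) {y : Spor.Th} (hy : orderOf y = q) :
    ¬ 5 ∣ Nat.card (centralizer ({y} : Set Spor.Th)) := by
  have := fin_th
  intro h5
  obtain ⟨z, hz, hd⟩ := dvd_symm (by norm_num) h5
  rw [hy, card_five hz] at hd
  exact h hd

/-- an element of order 3 commuting with an element of order 5 commutes with an involution -/
theorem three_five {x y : Spor.Th} (hx : orderOf x = 3) (hy : orderOf y = 5) (hxy : x * y = y * x) :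
    ∃ s : Spor.Th, orderOf s = 2 ∧ s * x = x * s := by
  have h := KFacts.Th.Main.ctx
  have := h.fin
  obtain ⟨f, F⟩ := exists_epi h
  have hc := H49.ThFive.c120 h F
  have h3 : 3 ∣ Nat.card ↥(centralizer ({BpSpor.ThCent.sx h c5} : Set ↥(centralizer ({ev gTh X5} : Set Spor.Th)))) :=
    Dvd.dvd.trans (by norm_num) hc
  obtain ⟨t, ht, ht3⟩ := exists_of_dvd Nat.prime_three h3
  have hta := congrArg Subtype.val (mem_centralizer_singleton_iff.1 ht)
  have hX : orderOf (ev gTh X5) = 5 := by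
    have := o5 h F
    rwa [Subgroup.orderOf_mk] at this
  obtain ⟨_, x', y', z, a, D⟩ := H49.ThFive.exists_dat
  obtain ⟨g, hg⟩ := D.all hy
  obtain ⟨k, hk⟩ := D.all hX
  have hg2 : (k⁻¹ * g) * y * (k⁻¹ * g)⁻¹ = ev gTh X5 := by
    calc (k⁻¹ * g) * y * (k⁻¹ * g)⁻¹ = k⁻¹ * (g * y * g⁻¹) * k := by group
      _ = k⁻¹ * (k * ev gTh X5 * k⁻¹) * k := by rw [hg, hk]
      _ = _ := by group
  set m := k⁻¹ * g with hm
  have h1 : m * x * m⁻¹ ∈ centralizer ({ev gTh X5} : Set Spor.Th) := by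
    rw [← hg2]
    exact mem_cent_conj (mem_centralizer_singleton_iff.2 hxy)
  have h2 : ¬ 3 ^ 2 ∣ Nat.card ↥(centralizer ({ev gTh X5} : Set Spor.Th)) := by
    rw [card_five hX]
    norm_num
  have hf3 : Fact (Nat.Prime 3) := ⟨Nat.prime_three⟩
  obtain ⟨c, hc⟩ := CpAutON.Gen.conj_into h2 (x := ⟨m * x * m⁻¹, h1⟩) (y := t)
    (by rw [Subgroup.orderOf_mk, orderOf_conj', hx]) ht3
  obtain ⟨i, hi⟩ := mem_zpowers_iff.1 hc
  have h4 : (t : Spor.Th) ^ i = c * (m * x * m⁻¹) * (c : Spor.Th)⁻¹ := congrArg Subtype.val hi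
  have h5 : (t : Spor.Th) * gTh 1 = gTh 1 * t := hta
  have h6 : gTh 1 * (t : Spor.Th) ^ i = (t : Spor.Th) ^ i * gTh 1 := by
    have : Commute (gTh 1) (t : Spor.Th) := h5.symm
    exact this.zpow_right i
  rw [h4] at h6
  refine ⟨(c * m)⁻¹ * gTh 1 * ((c * m)⁻¹)⁻¹, by rw [orderOf_conj']; exact MonsterX.ThOneClass.orderOf_a, ?_⟩
  calc (↑c * m)⁻¹ * gTh 1 * ((↑c * m)⁻¹)⁻¹ * x = (c * m)⁻¹ * (gTh 1 * (c * (m * x * m⁻¹) * (c : Spor.Th)⁻¹)) * (c * m) := by
        group
    _ = (c * m)⁻¹ * ((c * (m * x * m⁻¹) * (c : Spor.Th)⁻¹) * gTh 1) * (c * m) := by rw [h6]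
    _ = _ := by group

/-- two does not divide the order of the centraliser of an element of order 13, 19, 31 -/
theorem odd_cent {q : ℕ} (hq : q.Prime) (h : ¬ q ∣ 92897280) {y : Spor.Th} (hy : orderOf y = q) :
    ¬ 2 ∣ Nat.card (centralizer ({y} : Set Spor.Th)) := by
  have := fin_th
  intro h2
  obtain ⟨z, hz, hd⟩ := dvd_symm (by norm_num) h2
  rw [hy, MonsterX.ThOneClass.card_centralizer hz] at hd
  exact h hd

/-- **the centraliser of an element of order 31** -/
theorem thirtyone {y : Spor.Th} (hy : orderOf y = 31) :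
    ¬ 13 ∣ Nat.card (centralizer ({y} : Set Spor.Th)) ∧ ¬ 19 ∣ Nat.card (centralizer ({y} : Set Spor.Th)) ∧
      (3 ^ 6 ∣ Nat.card (centralizer ({y} : Set Spor.Th)) → 3 ^ 8 ∣ Nat.card (centralizer ({y} : Set Spor.Th))) := by
  have := fin_th
  obtain ⟨y', f, hy', hf, hfy⟩ := exists_thirtyone
  have hcard := card_th
  rw [card_cent_eq (by norm_num) (by rw [hcard]; norm_num) hy' hy]
  have h31 : y' ^ 31 = 1 := by rw [← hy', pow_orderOf_eq_one]
  have hfK : f ∈ normalizer (centralizer ({y'} : Set Spor.Th) : Set Spor.Th) := by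
    have h1 : ∀ u, u ∈ centralizer ({y'} : Set Spor.Th) → f * u * f⁻¹ ∈ centralizer ({y'} : Set Spor.Th) := by
      intro u hu
      have h2 := mem_cent_conj (g := f) hu
      rw [hfy] at h2
      rwa [cent_eq_of_zpowers (zpowers_eq (r := 31) (by norm_num) hy' (by
        rw [← hfy, orderOf_conj', hy']) (pow_mem (mem_zpowers y') 8))] at h2
    rw [Subgroup.mem_normalizer_iff]
    intro u
    refine ⟨h1 u, fun hu => ?_⟩
    have h2 : ∀ n : ℕ, f ^ n * (f * u * f⁻¹) * (f ^ n)⁻¹ ∈ centralizer ({y'} : Set Spor.Th) := by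
      intro n
      induction n with
      | zero => rw [pow_zero, one_mul, inv_one, mul_one]; exact hu
      | succ n ih =>
        have h3 := h1 _ ih
        rw [pow_succ', show f * f ^ n * (f * u * f⁻¹) * (f * f ^ n)⁻¹ = f * (f ^ n * (f * u * f⁻¹) * (f ^ n)⁻¹) * f⁻¹ by group]
        exact h3
    have h3 := h2 4
    rw [show f ^ 4 * (f * u * f⁻¹) * (f ^ 4)⁻¹ = f ^ 5 * u * (f ^ 5)⁻¹ by group, ← hf, pow_orderOf_eq_one, one_mul,
      inv_one, mul_one] at h3
    exact h3
  have h5K : ¬ 5 ∣ Nat.card (centralizer ({y'} : Set Spor.Th)) := not_dvd_five (by norm_num) (by norm_num) hy'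
  refine ⟨?_, ?_, ?_⟩
  · intro h
    have h1 := dvd_cent_of_norm (by norm_num) hf hfK h5K (q := 13) (by norm_num) (by rw [hcard]; norm_num) (by norm_num) h
    rw [card_five hf] at h1
    revert h1
    norm_num
  · intro h
    have h1 := dvd_cent_of_norm (by norm_num) hf hfK h5K (q := 19) (by norm_num) (by rw [hcard]; norm_num) (by norm_num) h
    rw [card_five hf] at h1
    revert h1
    norm_num
  · intro h
    obtain ⟨T, hTK, hT, hfT, hdv⟩ := exists_inv (by norm_num) hf hfK h5K Nat.prime_three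
    have hf3 : Fact (Nat.Prime 3) := ⟨Nat.prime_three⟩
    obtain ⟨m, hm⟩ := IsPGroup.iff_card.1 hT
    have h1 := hdv 6 h
    have h2 := card_modEq (l := 5) (by norm_num) hf hfT
    have h3 : Nat.card (T ⊓ centralizer ({f} : Set Spor.Th) : Subgroup Spor.Th) ∣ 3 := by
      have h4 : IsPGroup 3 (T ⊓ centralizer ({f} : Set Spor.Th) : Subgroup Spor.Th) := hT.to_le inf_le_left
      obtain ⟨k, hk⟩ := IsPGroup.iff_card.1 h4
      have h5 : Nat.card (T ⊓ centralizer ({f} : Set Spor.Th) : Subgroup Spor.Th) ∣ 3000 := by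
        rw [← card_five hf]
        exact card_dvd_of_le inf_le_right
      rw [hk] at h5 ⊢
      have h6 : k ≤ 1 := by
        by_contra h7
        have h8 : 3 ^ 2 ∣ 3000 := (pow_dvd_pow 3 (by omega : 2 ≤ k)).trans h5
        revert h8
        norm_num
      calc 3 ^ k ∣ 3 ^ 1 := pow_dvd_pow 3 h6
        _ = 3 := by norm_num
    rw [hm] at h1 h2
    have h4 : 6 ≤ m := (Nat.pow_dvd_pow_iff_le_right (by norm_num)).1 h1
    have h5 : 3 ^ m ∣ 3 ^ 10 := by
      rw [← hm]
      have h6 : Nat.card T ∣ Nat.card Spor.Th := Subgroup.card_subgroup_dvd_card _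
      rw [hm, hcard] at h6
      have h7 : m ≤ 10 := by
        by_contra h8
        have h9 : 3 ^ 11 ∣ 90745943887872000 := (pow_dvd_pow 3 (by omega : 11 ≤ m)).trans h6
        revert h9
        norm_num
      rw [hm]
      exact pow_dvd_pow 3 h7
    have h6 : m ≤ 10 := (Nat.pow_dvd_pow_iff_le_right (by norm_num)).1 h5
    have h7 : 8 ≤ m := by
      rcases (Nat.dvd_prime Nat.prime_three).1 h3 with h8 | h8
      · rw [h8] at h2
        interval_cases m <;> first | omega | (revert h2; decide)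
      · rw [h8] at h2
        interval_cases m <;> first | omega | (revert h2; decide)
    calc 3 ^ 8 ∣ 3 ^ m := pow_dvd_pow 3 h7
      _ = Nat.card T := hm.symm
      _ ∣ _ := card_dvd_of_le hTK

end Cfsg.Agent.H502.TO
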