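import Cfsg.Agent.H502.TO.Gen
import Cfsg.Agent.H502.TO.Words
import Cfsg.Agent.H49.ThFiveDat
import Cfsg.Agent.H49.ThSevenDat

/-!
# Centralisers in the Thompson group (helper502)

* `not_dvd_u1` : 13, 19, 31 do not divide `|C(u1)|`, `u1` the central element of order 3 of a Sylow 3-subgroup;
* `card_five` : `|C(y)| = 3000` for all elements `y` of order 5;
* `three_five` : an element of order 3 commuting with an element of order 5 commutes with an involution.
-/

set_option autoImplicit false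
set_option maxRecDepth 100000

namespace Cfsg.Agent.H502.TO

open Subgroup Cfsg
open Cfsg.Agent.Th.Base Cfsg.Agent.Th.Word Cfsg.Agent.Th.RelWords Cfsg.Agent.Th.PermTab
  Cfsg.Agent.Th.KOracle Cfsg.Agent.Th.KPerm Cfsg.Agent.Th.NineAct Cfsg.Agent.Th.CStruct
  Cfsg.Agent.Th.COracleDef Cfsg.Agent.Th.COracleSound
open Cfsg.Agent.KFacts.Th.Mask Cfsg.Agent.KFacts.Th.Struct
open Cfsg.Agent.Th.IndexUpper (gTh)
open Cfsg.Agent.CpAutTh.Data Cfsg.Agent.CpAutTh.Alt Cfsg.Agent.CpAutTh.RankOne Cfsg.Agent.CpAutTh.Local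

/-- **Lemma Z** in the ambient group -/
theorem not_dvd_cent {K : Type*} [Group K] [Finite K] {z s g k : K} (hs : orderOf s = 2) (hsz : s * z = z * s)
    (huniq : ∀ u : K, orderOf u = 2 → u * s = s * u → u * z = z * u → u = s)
    (hgz : g * z = z * g) (hkz : k * z = z * k) (hg : g * g = s) (hkk : k * k = s) (hk : k * g * k⁻¹ = g⁻¹) {r : ℕ}
    (hr : r.Prime) (hr2 : r ≠ 2) (hrr : ¬ r ^ 2 ∣ Nat.card K) (hc : ¬ r ∣ Nat.card (centralizer ({s} : Set K))) :
    ¬ r ∣ Nat.card (centralizer ({z} : Set K)) := by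
  refine not_dvd_of_quat (G := centralizer ({z} : Set K)) (s := ⟨s, mem_centralizer_singleton_iff.2 hsz⟩)
    (g := ⟨g, mem_centralizer_singleton_iff.2 hgz⟩) (k := ⟨k, mem_centralizer_singleton_iff.2 hkz⟩)
    (by rw [Subgroup.orderOf_mk, hs]) ?_ (Subtype.ext hg) (Subtype.ext hkk) (Subtype.ext hk) hr hr2
    (fun h => hrr (h.trans (Subgroup.card_subgroup_dvd_card _))) ?_
  · rintro ⟨u, hu⟩ hu2 hus
    rw [Subgroup.orderOf_mk] at hu2
    exact Subtype.ext (huniq u hu2 (congrArg Subtype.val hus) (mem_centralizer_singleton_iff.1 hu))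
  · intro h
    apply hc
    refine h.trans ?_
    rw [← card_map_of_injective (centralizer ({z} : Set K)).subtype_injective]
    apply card_dvd_of_le
    rintro _ ⟨u, hu, rfl⟩
    have h1 := mem_centralizer_singleton_iff.1 hu
    exact mem_centralizer_singleton_iff.2 (congrArg Subtype.val h1)

/-- the two words -/
def wq1 : List ℕ := wc 0 ++ (wc 1 ++ wc 2)
def wq2 : List ℕ := wc 4 ++ (wc 6 ++ wc 7)

theorem q1x : corc (wq1 ++ (X333 ++ (iw wq1 ++ iw X333))) = true := by decide +kernel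
theorem q2x : corc (wq2 ++ (X333 ++ (iw wq2 ++ iw X333))) = true := by decide +kernel
theorem q11 : corc (wq1 ++ (wq1 ++ [1])) = true := by decide +kernel
theorem q22 : corc (wq2 ++ (wq2 ++ [1])) = true := by decide +kernel
theorem q21 : corc (wq2 ++ (wq1 ++ (iw wq2 ++ wq1))) = true := by decide +kernel

theorem card_th : Nat.card Spor.Th = 90745943887872000 := KFacts.Th.Main.ctx.card

theorem fin_th : Finite Spor.Th := KFacts.Th.Main.finite

/-- the central element of order 3 of the Sylow 3-subgroup -/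
theorem not_dvd_u1 {r : ℕ} (hr : r = 13 ∨ r = 19 ∨ r = 31) :
    ¬ r ∣ Nat.card (centralizer ({ev gTh X333} : Set Spor.Th)) := by
  have h := KFacts.Th.Main.ctx
  have := h.fin
  obtain ⟨f, F⟩ := exists_epi h
  have ha : orderOf (gTh 1) = 2 := MonsterX.ThOneClass.orderOf_a
  have hC := MonsterX.ThOneClass.card_centralizer ha
  have haa : gTh 1 * gTh 1 = 1 := h.aa
  have sq : ∀ {w : List ℕ}, corc (w ++ (w ++ [1])) = true → ev gTh w * ev gTh w = gTh 1 := by
    intro w hw
    have h1 := ev_one h hw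
    rw [ev_append, ev_append, ev_singleton, ← mul_assoc] at h1
    rw [mul_eq_one_iff_eq_inv.1 h1, inv_eq_of_mul_eq_one_right haa]
  refine not_dvd_cent (s := gTh 1) (g := ev gTh wq1) (k := ev gTh wq2) ha (h.mem_C.1 (ev_mem_sub c333)).symm
    (fun u hu hus huz => inv_triple h F hu hus huz) (H49.ThSeven.comm_of h q1x) (H49.ThSeven.comm_of h q2x)
    (sq q11) (sq q22) ?_ (by rcases hr with rfl | rfl | rfl <;> norm_num)
    (by rcases hr with rfl | rfl | rfl <;> norm_num) ?_ ?_
  · have h1 := ev_one h q21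
    rw [ev_append, ev_append, ev_append, ev_iw h.inv] at h1
    rw [← mul_inv_eq_one, inv_inv, ← h1]
    group
  · rw [card_th]
    rcases hr with rfl | rfl | rfl <;> norm_num
  · rw [hC]
    rcases hr with rfl | rfl | rfl <;> norm_num

end Cfsg.Agent.H502.TO
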