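import Cfsg.Agent.H502.TO.Main

/-!
# The row of the Thompson group for odd primes (helper502)
-/

set_option autoImplicit false

namespace Cfsg.Agent.H502.TO

open Subgroup Cfsg

universe u

/-- **The situation `Sit` does not occur in the Thompson group.** -/
theorem row {L : Type u} [Group L] [Finite L] (h : Spor.IsoTh L) {p : ℕ} {a : MulAut L} {b : L}
    (S : Cfsg.Agent.H516.Sit p a b) : False := by
  obtain ⟨e⟩ := h
  have hfin := fin_th
  obtain ⟨k, hk⟩ := KFacts.Th.Main.inner (e.symm.trans (a.trans e))
  have ha : ∀ u : L, e (a u) = k * e u * k⁻¹ := by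
    intro u
    have h1 := congrArg (fun α : MulAut Spor.Th => α (e u)) hk
    have h2 : e (a (e.symm (e u))) = k * e u * k⁻¹ := h1
    rwa [e.symm_apply_apply] at h2
  have hF : (Cfsg.fixedSubgroup a).map e.toMonoidHom = centralizer ({k} : Set Spor.Th) := by
    ext z
    constructor
    · rintro ⟨u, hu, rfl⟩
      have hu' : a u = u := hu
      have h1 := ha u
      rw [hu'] at h1
      rw [mem_centralizer_singleton_iff]
      show e u * k = k * e u
      calc e u * k = k * e u * k⁻¹ * k := by rw [← h1]
        _ = k * e u := by group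
    · intro hz
      rw [mem_centralizer_singleton_iff] at hz
      obtain ⟨u, rfl⟩ := e.surjective z
      refine ⟨u, ?_, rfl⟩
      show a u = u
      apply e.injective
      rw [ha, ← hz, mul_inv_cancel_right]
  have hcard : Nat.card (Cfsg.fixedSubgroup a) = Nat.card (centralizer ({k} : Set Spor.Th)) := by
    rw [← hF, card_map_of_injective e.injective]
  have hL : Nat.card L = 90745943887872000 := by rw [Nat.card_congr e.toEquiv, card_th]
  have hk1 : k ≠ 1 := by
    rintro rfl
    have h1 := S.odd
    rw [hcard] at h1
    have h2 : centralizer ({(1 : Spor.Th)} : Set Spor.Th) = ⊤ := by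
      rw [eq_top_iff]
      intro z _
      rw [mem_centralizer_singleton_iff, mul_one, one_mul]
    rw [h2, Subgroup.card_top, card_th] at h1
    exact absurd h1 (by decide)
  have h7 := not_seven S (congr e.symm H49.ThSeven.dat)
  have h15 := S.two_pow_le (k := 15) (by rw [hL]; norm_num)
  have h1 := main hk1 (by rw [← hcard]; exact S.odd) (by rw [← hcard]; exact h7)
  rw [← hcard] at h1
  exact absurd h15 (not_le.2 h1)

end Cfsg.Agent.H502.TO
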