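import Cfsg.Agent.H49.ThSeven
import Cfsg.Agent.H516.OddFrame
import Cfsg.Agent.H502.TO.Gen
import Cfsg.Agent.GH.C2GrowG

/-!
# The prime 7 (helper502)

* `not_mem_commutator` : transfer of central elements;
* `congr` : the data for the prime 7 of the Thompson group under isomorphisms;
* `not_seven` : 7 does not divide the order of the fixed subgroup in the situation `Sit`;
* `no_49` : 49 does not divide `|C(y)|` if `4 ∤ |N(⟨y⟩)|`, `y` of order `r`, `r²` not dividing the order.
-/

set_option autoImplicit false
set_option linter.unusedSectionVars false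

namespace Cfsg.Agent.H502.TO

open Subgroup Cfsg
open Cfsg.Agent.H516 (Sit)
open scoped commutatorElement
open Cfsg.Agent.H49.ThSeven

/-- central elements of an abelian Hall subgroup are not in the commutator subgroup -/
theorem not_mem_commutator {C : Type*} [Group C] [Finite C] {P : Subgroup C} (hPc : ∀ u ∈ P, ∀ v ∈ P, u * v = v * u)
    {y : C} (hyP : y ∈ P) (hyc : ∀ g : C, g * y = y * g) (hco : (orderOf y).Coprime P.index) (hy1 : y ≠ 1) :
    y ∉ commutator C := by
  let _ : CommGroup P := { (inferInstance : Group P) with mul_comm := fun u v => Subtype.ext (hPc u u.2 v v.2) }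
  intro hy
  have h1 : MonoidHom.transfer (MonoidHom.id P) y = 1 := (Abelianization.commutator_subset_ker _) hy
  have key : ∀ (k : ℕ) (g₀ : C), g₀⁻¹ * y ^ k * g₀ ∈ P → g₀⁻¹ * y ^ k * g₀ = y ^ k := by
    intro k g₀ _
    have h2 : Commute g₀ (y ^ k) := (show Commute g₀ y from hyc g₀).pow_right k
    rw [mul_assoc, ← h2.eq, inv_mul_cancel_left]
  rw [MonoidHom.transfer_eq_pow _ y key] at h1
  have h2 : y ^ P.index = 1 := congrArg Subtype.val h1
  apply hy1
  rw [← orderOf_eq_one_iff]
  exact Nat.Coprime.eq_one_of_dvd hco (orderOf_dvd_of_pow_eq_one h2)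

theorem congr {K K' : Type*} [Group K] [Group K'] (e : K ≃* K') {x a b c : K} (D : Dat x a b c) :
    Dat (e x) (e a) (e b) (e c) := by
  have hcent : ∀ s : K, Nat.card (centralizer ({e s} : Set K')) = Nat.card (centralizer ({s} : Set K)) := by
    intro s
    have h1 : (centralizer ({s} : Set K)).map e.toMonoidHom = centralizer ({e s} : Set K') := by
      ext y
      constructor
      · rintro ⟨a, ha, rfl⟩
        have ha' := mem_centralizer_singleton_iff.1 ha
        rw [mem_centralizer_singleton_iff]
        change e a * e s = e s * e a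
        rw [← map_mul, ha', map_mul]
      · intro hy
        rw [mem_centralizer_singleton_iff] at hy
        obtain ⟨a, rfl⟩ := e.surjective y
        refine ⟨a, ?_, rfl⟩
        rw [SetLike.mem_coe, mem_centralizer_singleton_iff]
        apply e.injective
        rw [map_mul, map_mul, hy]
    rw [← h1, card_map_of_injective e.injective]
  refine
    { hx := by rw [MulEquiv.orderOf_eq, D.hx]
      ha := by rw [MulEquiv.orderOf_eq, D.ha]
      hb := by rw [MulEquiv.orderOf_eq, D.hb]
      hc := by rw [MulEquiv.orderOf_eq, D.hc]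
      ax := by rw [← map_mul, D.ax, map_mul]
      bx := by rw [← map_mul, D.bx, map_mul]
      cx := by rw [← map_mul, D.cx, map_mul]
      ab := by rw [← map_mul, D.ab, map_mul]
      ac := by rw [← map_mul, D.ac, map_mul]
      bc := by rw [← map_mul, D.bc, map_mul, map_mul]
      pair := ?_
      one := ?_
      card := ?_
      c49 := ?_
      h49 := by rw [← Nat.card_congr e.toEquiv]; exact D.h49
      h343 := by rw [← Nat.card_congr e.toEquiv]; exact D.h343 }
  · intro s hs hsx
    obtain ⟨t, rfl⟩ := e.surjective s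
    rw [MulEquiv.orderOf_eq] at hs
    rw [← map_mul, ← map_mul] at hsx
    obtain ⟨g, hg, hgx⟩ := D.pair t hs (e.injective hsx)
    exact ⟨e g, by rw [← map_inv, ← map_mul, ← map_mul, hg], by rw [← map_mul, hgx, map_mul]⟩
  · intro y hy
    obtain ⟨t, rfl⟩ := e.surjective y
    rw [MulEquiv.orderOf_eq] at hy
    obtain ⟨g, hg⟩ := D.one t hy
    exact ⟨e g, by rw [← map_inv, ← map_mul, ← map_mul, hg]⟩
  · intro Y hY
    have h1 := D.card (Y.comap e.toMonoidHom) (by
      intro y hy
      obtain ⟨h1, h2⟩ := hY (e y) hy
      rw [← map_mul, ← map_mul] at h1 h2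
      exact ⟨e.injective h1, e.injective h2⟩)
    have h2 : Nat.card (Y.comap e.toMonoidHom) = Nat.card Y := by
      have h3 : (Y.comap e.toMonoidHom).map e.toMonoidHom = Y := Subgroup.map_comap_eq_self_of_surjective e.surjective Y
      have h4 : Nat.card ((Y.comap e.toMonoidHom).map e.toMonoidHom) = Nat.card (Y.comap e.toMonoidHom) :=
        card_map_of_injective e.injective
      rw [← h4, h3]
    rwa [h2] at h1
  · intro s hs
    obtain ⟨t, rfl⟩ := e.surjective s
    rw [MulEquiv.orderOf_eq] at hs
    rw [hcent]
    exact D.c49 t hs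

theorem map_conj_cent {L : Type*} [Group L] [Finite L] {y g : L} (hg : g * y = y * g) :
    (centralizer ({y} : Set L)).map (MulAut.conj g).toMonoidHom = centralizer ({y} : Set L) := by
  have key : ∀ {g : L}, g * y = y * g → (centralizer ({y} : Set L)).map (MulAut.conj g).toMonoidHom ≤
      centralizer ({y} : Set L) := by
    rintro g hg _ ⟨u, hu, rfl⟩
    have h1 := mem_cent_conj (g := g) hu
    rwa [show g * y * g⁻¹ = y by rw [hg, mul_inv_cancel_right]] at h1
  refine le_antisymm (key hg) ?_
  intro u hu
  refine ⟨g⁻¹ * u * g, ?_, ?_⟩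
  · have h1 := key (g := g⁻¹) (by rw [inv_mul_eq_iff_eq_mul, ← mul_assoc, hg, mul_inv_cancel_right]) ⟨u, hu, rfl⟩
    have h2 : (MulAut.conj g⁻¹).toMonoidHom u = g⁻¹ * u * g := by
      show g⁻¹ * u * g⁻¹⁻¹ = _
      rw [inv_inv]
    rwa [h2] at h1
  · show g * (g⁻¹ * u * g) * g⁻¹ = u
    group

/-- 7 does not divide the order of the fixed subgroup -/
theorem not_seven {L : Type*} [Group L] [Finite L] {p : ℕ} {α : MulAut L} {β : L} (S : Sit p α β) {x₀ a₀ b₀ c₀ : L}
    (D₀ : Dat x₀ a₀ b₀ c₀) : ¬ 7 ∣ Nat.card (fixedSubgroup α) := by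
  have h7F : Fact (Nat.Prime 7) := ⟨by norm_num⟩
  have h2F : Fact (Nat.Prime 2) := ⟨Nat.prime_two⟩
  intro h7
  obtain ⟨⟨y, hyF⟩, hy⟩ := exists_prime_orderOf_dvd_card' (G := fixedSubgroup α) 7 h7
  rw [Subgroup.orderOf_mk] at hy
  have hay : α y = y := hyF
  obtain ⟨g, hg⟩ := D₀.one y hy
  have D := congr (MulAut.conj g⁻¹) D₀
  have hgx : (MulAut.conj g⁻¹) x₀ = y := by rw [MulAut.conj_apply, ← hg]; group
  rw [hgx] at D
  generalize (MulAut.conj g⁻¹) a₀ = a at D
  generalize (MulAut.conj g⁻¹) b₀ = b at D
  generalize (MulAut.conj g⁻¹) c₀ = c at D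
  have hy1 : y ≠ 1 := by
    rintro rfl
    rw [orderOf_one] at hy
    norm_num at hy
  set C := centralizer ({y} : Set L) with hC
  have memC : ∀ {u : L}, u ∈ C ↔ u * y = y * u := fun {u} => mem_centralizer_singleton_iff
  have hCt : C ≠ ⊤ := by
    intro h1
    apply hy1
    have h2 : y ∈ Subgroup.center L := by
      rw [mem_center_iff]
      intro g
      have h3 : g ∈ C := by rw [h1]; exact mem_top g
      exact memC.1 h3
    rwa [S.good.center, mem_bot] at h2
  have hCm : C.map α.toMonoidHom = C := S.map_centralizer hay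
  have haC : a ∈ C := memC.2 D.ax
  have hbC : b ∈ C := memC.2 D.bx
  have hcC : c ∈ C := memC.2 D.cx
  have hpF : Fact p.Prime := ⟨S.prime⟩
  by_cases hp7 : p = 7
  · subst hp7
    set H : Subgroup L := ⁅C, C⁆ with hH
    have hHC : H ≤ C := commutator_le_self C
    have hHt : H ≠ ⊤ := fun h => hCt (top_le_iff.1 (h ▸ hHC))
    have hHm : H.map α.toMonoidHom = H := by rw [hH, map_commutator, hCm]
    have hHn : ∀ g, g * y = y * g → H.map (MulAut.conj g).toMonoidHom = H := by
      intro g hg
      rw [hH, map_commutator, map_conj_cent hg]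
    have haH : a ∈ H := by
      have h1 : ⁅b, c⁆ = a := by
        rw [commutatorElement_def, D.bc]
        group
      rw [← h1]
      exact commutator_mem_commutator hbC hcC
    -- `y ∉ H`
    have hyH : y ∉ H := by
      obtain ⟨P, hP, hyP, hPc⟩ := D.exists_syl D.hx
      have hPC : P ≤ C := fun u hu => memC.2 (hPc u hu y hyP)
      intro hy2
      rw [hH, ← map_subtype_commutator] at hy2
      obtain ⟨y', hy', hyy⟩ := hy2
      have h1 : y' = ⟨y, memC.2 rfl⟩ := Subtype.ext hyy
      subst h1
      refine not_mem_commutator (P := P.subgroupOf C) ?_ hyP ?_ ?_ ?_ hy'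
      · intro u hu v hv
        exact Subtype.ext (hPc u hu v hv)
      · intro g
        exact Subtype.ext (memC.1 g.2)
      · rw [Subgroup.orderOf_mk, hy, Nat.Prime.coprime_iff_not_dvd (by norm_num)]
        intro h2
        apply D.h343
        have h3 : Nat.card (P.subgroupOf C) = 49 := by
          rw [← hP]
          exact Nat.card_congr (subgroupOfEquivOfLe hPC).toEquiv
        have h4 := card_mul_index (P.subgroupOf C)
        rw [h3] at h4
        obtain ⟨k, hk⟩ := h2
        rw [hk] at h4
        refine Dvd.dvd.trans ⟨k, ?_⟩ (Subgroup.card_subgroup_dvd_card C)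
        rw [← h4]
        ring
      · intro h2
        exact hy1 (congrArg Subtype.val h2)
    -- the core
    have hO : pCore 7 H = ⊥ := by
      set W : Subgroup L := (pCore 7 H).map H.subtype with hW
      have hW7 : IsPGroup 7 W := (Lib.Cores.pCore_isPGroup (G := H) 7).map _
      have hWH : W ≤ H := map_subtype_le _
      have hWn : ∀ g, g * y = y * g → ∀ w ∈ W, g * w * g⁻¹ ∈ W := by
        rintro g hg _ ⟨s, hs, rfl⟩
        have h2 : (pCore 7 H).map (H516.resAut (MulAut.conj g) H (hHn g hg)).toMonoidHom = pCore 7 H :=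
          Lib.Cores.map_equiv_pCore _ 7
        have h3 : H516.resAut (MulAut.conj g) H (hHn g hg) s ∈
            (pCore 7 H).map (H516.resAut (MulAut.conj g) H (hHn g hg)).toMonoidHom := ⟨s, hs, rfl⟩
        rw [h2] at h3
        exact ⟨_, h3, rfl⟩
      have hWb : W = ⊥ := by
        by_contra hne
        have hyW : W ⊓ zpowers y = ⊥ := by
          rw [eq_bot_iff]
          rintro u ⟨hu1, hu2⟩
          rw [mem_bot]
          by_contra hu
          apply hyH
          apply hWH
          have h1 : orderOf u = 7 := by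
            have h2 : orderOf u ∣ 7 := by
              rw [← hy, ← Nat.card_zpowers y, ← Nat.card_zpowers u]
              exact card_dvd_of_le (zpowers_le.2 hu2)
            rcases (Nat.dvd_prime (by norm_num)).1 h2 with h3 | h3
            · exact absurd (orderOf_eq_one_iff.1 h3) hu
            · exact h3
          have h2 := zpowers_eq (r := 7) (by norm_num) hy h1 hu2
          have h3 : y ∈ zpowers u := by rw [h2]; exact mem_zpowers y
          exact (zpowers_le.2 hu1) h3
        have hWy : W ≤ normalizer ((zpowers y : Subgroup L) : Set L) := by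
          intro w hw
          rw [Subgroup.mem_normalizer_iff]
          have h1 : w * y = y * w := memC.1 (hHC (hWH hw))
          intro u
          have h2 : ∀ i : ℤ, w * y ^ i * w⁻¹ = y ^ i := by
            intro i
            have h3 : Commute w (y ^ i) := (show Commute w y from h1).zpow_right i
            rw [h3.eq, mul_inv_cancel_right]
          constructor
          · intro hu
            obtain ⟨i, rfl⟩ := mem_zpowers_iff.1 hu
            rw [h2]
            exact hu
          · intro hu
            obtain ⟨i, hi⟩ := mem_zpowers_iff.1 hu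
            have h4 : u = y ^ i := by
              have h5 := h2 i
              rw [hi] at h5
              have h6 : w * (w * u * w⁻¹) * w⁻¹ = w * u * w⁻¹ := h5
              exact (mul_left_cancel (mul_right_cancel h6)).symm.trans hi.symm
            rw [h4]
            exact zpow_mem (mem_zpowers y) i
        have hQ := GH.C2GrowG.card_sup hWy
        rw [hyW, Subgroup.card_bot, mul_one, Nat.card_zpowers, hy] at hQ
        have hQ7 : IsPGroup 7 (W ⊔ zpowers y : Subgroup L) :=
          hW7.to_sup_of_normal_right' (IsPGroup.of_card (n := 1) (by rw [Nat.card_zpowers, hy, pow_one])) hWy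
        have hQ49 := D.le_of_seven hQ7
        rw [hQ] at hQ49
        obtain ⟨n, hn⟩ := IsPGroup.iff_card.1 hW7
        have hn1 : n = 1 := by
          rcases n with _ | _ | n
          · rw [pow_zero] at hn
            exact absurd (Subgroup.eq_bot_of_card_eq W hn) hne
          · rfl
          · exfalso
            have h1 : 7 ^ 2 ≤ 7 ^ (n + 1 + 1) := Nat.pow_le_pow_right (by norm_num) (by omega)
            rw [hn] at hQ49
            omega
        rw [hn1, pow_one] at hn
        obtain ⟨⟨w, hwW⟩, hw⟩ := exists_prime_orderOf_dvd_card' (G := W) 7 (by rw [hn])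
        rw [Subgroup.orderOf_mk] at hw
        have hWw : ∀ {v : L}, v ∈ W → orderOf v = 7 → W = zpowers v := by
          intro v hv hv7
          refine (Subgroup.eq_of_le_of_card_ge (zpowers_le.2 hv) ?_).symm
          rw [Nat.card_zpowers, hv7, hn]
        have hnorm : ∀ {g : L}, g * y = y * g → ∃ i : ℕ, g * w * g⁻¹ = w ^ i := by
          intro g hg
          have h1 := hWn g hg w hwW
          rw [hWw hwW hw] at h1
          obtain ⟨k, hk⟩ := (Submonoid.mem_powers_iff _ _).1 ((mem_powers_iff_mem_zpowers).2 h1)
          exact ⟨k, hk.symm⟩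
        obtain ⟨i, hi⟩ := hnorm D.bx
        obtain ⟨j, hj⟩ := hnorm D.cx
        have h5 := comm_of_pow hi hj
        rw [D.bc] at h5
        set v := c * b * w * (c * b)⁻¹ with hv
        have h6 : a * v * a⁻¹ = v := by
          calc a * v * a⁻¹ = a * (c * b) * w * (a * (c * b))⁻¹ := by rw [hv]; group
            _ = v := h5
        have hvW : v ∈ W := hWn (c * b) (by
          rw [mul_assoc, D.bx, ← mul_assoc, D.cx, mul_assoc]) w hwW
        have hvo : orderOf v = 7 := by rw [hv, orderOf_conj', hw]
        refine D.no_cent D.ha (P := W ⊔ zpowers y) (by rw [hQ, hn]) ?_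
        intro u hu
        have h7 : (W ⊔ zpowers y : Subgroup L) ≤ centralizer ({a} : Set L) := by
          rw [sup_le_iff, hWw hvW hvo, zpowers_le, zpowers_le, mem_centralizer_singleton_iff,
            mem_centralizer_singleton_iff]
          refine ⟨?_, D.ax.symm⟩
          rw [mul_inv_eq_iff_eq_mul] at h6
          exact h6.symm
        exact (mem_centralizer_singleton_iff.1 (h7 hu)).symm
      rwa [hW, Subgroup.map_eq_bot_iff_of_injective _ (Subgroup.subtype_injective _)] at hWb
    have h1 := S.odd_of_inv hHt hHm hO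
    have h2 : 2 ∣ Nat.card H := by
      rw [← D.ha, ← Nat.card_zpowers]
      exact card_dvd_of_le (zpowers_le.2 haH)
    exact (Nat.not_even_iff_odd.2 h1) (even_iff_two_dvd.2 h2)
  · have hO : pCore p C = ⊥ := by
      have hW : (pCore p C).map C.subtype = ⊥ := by
        refine D.core ?_ ?_ ?_
        · rintro _ ⟨w, hw, rfl⟩
          exact memC.1 w.2
        · rintro g hg _ ⟨w, hw, rfl⟩
          have hn : (pCore p C).Normal := Lib.Cores.pCore_normal (G := C) p
          exact ⟨_, hn.conj_mem w hw ⟨g, memC.2 hg⟩, rfl⟩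
        · rw [card_map_of_injective (subtype_injective _)]
          obtain ⟨n, hn⟩ := IsPGroup.iff_card.1 (Lib.Cores.pCore_isPGroup (G := C) p)
          rw [hn]
          intro h1
          exact hp7 ((Nat.prime_dvd_prime_iff_eq (by norm_num) S.prime).1
            (Nat.Prime.dvd_of_dvd_pow (by norm_num) h1)).symm
      rwa [Subgroup.map_eq_bot_iff_of_injective _ (Subgroup.subtype_injective _)] at hW
    have h1 := S.odd_of_inv hCt hCm hO
    have h2 : 2 ∣ Nat.card C := by
      rw [← D.ha, ← Nat.card_zpowers]
      exact card_dvd_of_le (zpowers_le.2 haC)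
    exact (Nat.not_even_iff_odd.2 h1) (even_iff_two_dvd.2 h2)

end Cfsg.Agent.H502.TO
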